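import Mathlib
import Cfsg.Agent.Lib.Helper56.TC
import Cfsg.Agent.Lib.Helper56.MYU7.C0
import Cfsg.Agent.Lib.Helper56.MYU7.C1
import Cfsg.Agent.Lib.Helper56.MYU7.C2
import Cfsg.Agent.Lib.Helper56.MYU7.C3
import Cfsg.Agent.Lib.Helper56.MYU7.C4
set_option autoImplicit false
set_option maxRecDepth 1000000

namespace Cfsg.Agent.Lib.Helper56.MYU7

open Cfsg.Agent.Lib.Helper56.TC Cfsg.Agent.Lib.Helper56.TC.Tabs

theorem uN_581 : Upto T.chkName 581 := upto_add (upto_zero T.chkName) rfl cN_0
theorem uN_1164 : Upto T.chkName 1164 := upto_add uN_581 rfl cN_581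
theorem uN_1747 : Upto T.chkName 1747 := upto_add uN_1164 rfl cN_1164
theorem uN_2332 : Upto T.chkName 2332 := upto_add uN_1747 rfl cN_1747
theorem uN_2917 : Upto T.chkName 2917 := upto_add uN_2332 rfl cN_2332
theorem uN_3501 : Upto T.chkName 3501 := upto_add uN_2917 rfl cN_2917
theorem uN_4086 : Upto T.chkName 4086 := upto_add uN_3501 rfl cN_3501
theorem uN_4673 : Upto T.chkName 4673 := upto_add uN_4086 rfl cN_4086
theorem uN_5257 : Upto T.chkName 5257 := upto_add uN_4673 rfl cN_4673
theorem uN_5843 : Upto T.chkName 5843 := upto_add uN_5257 rfl cN_5257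
theorem uN_6428 : Upto T.chkName 6428 := upto_add uN_5843 rfl cN_5843
theorem uN_7011 : Upto T.chkName 7011 := upto_add uN_6428 rfl cN_6428
theorem uN_7597 : Upto T.chkName 7597 := upto_add uN_7011 rfl cN_7011
theorem uN_8183 : Upto T.chkName 8183 := upto_add uN_7597 rfl cN_7597
theorem uN_8767 : Upto T.chkName 8767 := upto_add uN_8183 rfl cN_8183
theorem uN_9351 : Upto T.chkName 9351 := upto_add uN_8767 rfl cN_8767
theorem uN_9938 : Upto T.chkName 9938 := upto_add uN_9351 rfl cN_9351
theorem uN_10524 : Upto T.chkName 10524 := upto_add uN_9938 rfl cN_9938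
theorem uN_11108 : Upto T.chkName 11108 := upto_add uN_10524 rfl cN_10524
theorem uN_11695 : Upto T.chkName 11695 := upto_add uN_11108 rfl cN_11108
theorem uN_12280 : Upto T.chkName 12280 := upto_add uN_11695 rfl cN_11695
theorem uN_12863 : Upto T.chkName 12863 := upto_add uN_12280 rfl cN_12280
theorem uN_13447 : Upto T.chkName 13447 := upto_add uN_12863 rfl cN_12863
theorem uN_14031 : Upto T.chkName 14031 := upto_add uN_13447 rfl cN_13447
theorem uN_14614 : Upto T.chkName 14614 := upto_add uN_14031 rfl cN_14031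
theorem uN_15197 : Upto T.chkName 15197 := upto_add uN_14614 rfl cN_14614
theorem uN_15778 : Upto T.chkName 15778 := upto_add uN_15197 rfl cN_15197
theorem uN_16360 : Upto T.chkName 16360 := upto_add uN_15778 rfl cN_15778
theorem uN_16937 : Upto T.chkName 16937 := upto_add uN_16360 rfl cN_16360
theorem uN_17280 : Upto T.chkName 17280 := upto_add uN_16937 rfl cN_16937
theorem uV_837 : Upto T.chkV 837 := upto_add (upto_zero T.chkV) rfl cV_0
theorem uV_1674 : Upto T.chkV 1674 := upto_add uV_837 rfl cV_837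
theorem uV_2511 : Upto T.chkV 2511 := upto_add uV_1674 rfl cV_1674
theorem uV_3348 : Upto T.chkV 3348 := upto_add uV_2511 rfl cV_2511
theorem uV_4185 : Upto T.chkV 4185 := upto_add uV_3348 rfl cV_3348
theorem uV_5022 : Upto T.chkV 5022 := upto_add uV_4185 rfl cV_4185
theorem uV_5859 : Upto T.chkV 5859 := upto_add uV_5022 rfl cV_5022
theorem uV_6696 : Upto T.chkV 6696 := upto_add uV_5859 rfl cV_5859
theorem uV_7533 : Upto T.chkV 7533 := upto_add uV_6696 rfl cV_6696
theorem uV_8370 : Upto T.chkV 8370 := upto_add uV_7533 rfl cV_7533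
theorem uV_9207 : Upto T.chkV 9207 := upto_add uV_8370 rfl cV_8370
theorem uV_10044 : Upto T.chkV 10044 := upto_add uV_9207 rfl cV_9207
theorem uV_10881 : Upto T.chkV 10881 := upto_add uV_10044 rfl cV_10044
theorem uV_11718 : Upto T.chkV 11718 := upto_add uV_10881 rfl cV_10881
theorem uV_12555 : Upto T.chkV 12555 := upto_add uV_11718 rfl cV_11718
theorem uV_13392 : Upto T.chkV 13392 := upto_add uV_12555 rfl cV_12555
theorem uV_14229 : Upto T.chkV 14229 := upto_add uV_13392 rfl cV_13392
theorem uV_15066 : Upto T.chkV 15066 := upto_add uV_14229 rfl cV_14229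
theorem uV_15903 : Upto T.chkV 15903 := upto_add uV_15066 rfl cV_15066
theorem uV_16740 : Upto T.chkV 16740 := upto_add uV_15903 rfl cV_15903
theorem uV_17280 : Upto T.chkV 17280 := upto_add uV_16740 rfl cV_16740

/-- The certificate is valid. -/
theorem cert : T.Cert where
  h0 := by decide +kernel
  hrx := by decide +kernel
  hs0 := by decide +kernel
  hname := uN_17280
  hV := uV_17280

theorem orep_0 : T.orep 0 < T.N ∧ T.ol (T.orep 0) = 0 := by decide +kernel
theorem cnt_0 : countLt (fun v => Nat.beq (T.ol v) 0) T.N = 1 := by decide +kernel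
theorem orep_1 : T.orep 1 < T.N ∧ T.ol (T.orep 1) = 1 := by decide +kernel
theorem cnt_1 : countLt (fun v => Nat.beq (T.ol v) 1) T.N = 56 := by decide +kernel
theorem orep_2 : T.orep 2 < T.N ∧ T.ol (T.orep 2) = 2 := by decide +kernel
theorem cnt_2 : countLt (fun v => Nat.beq (T.ol v) 2) T.N = 280 := by decide +kernel
theorem orep_3 : T.orep 3 < T.N ∧ T.ol (T.orep 3) = 3 := by decide +kernel
theorem cnt_3 : countLt (fun v => Nat.beq (T.ol v) 3) T.N = 560 := by decide +kernel
theorem orep_4 : T.orep 4 < T.N ∧ T.ol (T.orep 4) = 4 := by decide +kernel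
theorem cnt_4 : countLt (fun v => Nat.beq (T.ol v) 4) T.N = 56 := by decide +kernel
theorem orep_5 : T.orep 5 < T.N ∧ T.ol (T.orep 5) = 5 := by decide +kernel
theorem cnt_5 : countLt (fun v => Nat.beq (T.ol v) 5) T.N = 1120 := by decide +kernel
theorem orep_6 : T.orep 6 < T.N ∧ T.ol (T.orep 6) = 6 := by decide +kernel
theorem cnt_6 : countLt (fun v => Nat.beq (T.ol v) 6) T.N = 28 := by decide +kernel
theorem orep_7 : T.orep 7 < T.N ∧ T.ol (T.orep 7) = 7 := by decide +kernel
theorem cnt_7 : countLt (fun v => Nat.beq (T.ol v) 7) T.N = 280 := by decide +kernel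
theorem orep_8 : T.orep 8 < T.N ∧ T.ol (T.orep 8) = 8 := by decide +kernel
theorem cnt_8 : countLt (fun v => Nat.beq (T.ol v) 8) T.N = 280 := by decide +kernel
theorem orep_9 : T.orep 9 < T.N ∧ T.ol (T.orep 9) = 9 := by decide +kernel
theorem cnt_9 : countLt (fun v => Nat.beq (T.ol v) 9) T.N = 840 := by decide +kernel
theorem orep_10 : T.orep 10 < T.N ∧ T.ol (T.orep 10) = 10 := by decide +kernel
theorem cnt_10 : countLt (fun v => Nat.beq (T.ol v) 10) T.N = 1680 := by decide +kernel
theorem orep_11 : T.orep 11 < T.N ∧ T.ol (T.orep 11) = 11 := by decide +kernel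
theorem cnt_11 : countLt (fun v => Nat.beq (T.ol v) 11) T.N = 280 := by decide +kernel
theorem orep_12 : T.orep 12 < T.N ∧ T.ol (T.orep 12) = 12 := by decide +kernel
theorem cnt_12 : countLt (fun v => Nat.beq (T.ol v) 12) T.N = 1680 := by decide +kernel
theorem orep_13 : T.orep 13 < T.N ∧ T.ol (T.orep 13) = 13 := by decide +kernel
theorem cnt_13 : countLt (fun v => Nat.beq (T.ol v) 13) T.N = 168 := by decide +kernel
theorem orep_14 : T.orep 14 < T.N ∧ T.ol (T.orep 14) = 14 := by decide +kernel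
theorem cnt_14 : countLt (fun v => Nat.beq (T.ol v) 14) T.N = 168 := by decide +kernel
theorem orep_15 : T.orep 15 < T.N ∧ T.ol (T.orep 15) = 15 := by decide +kernel
theorem cnt_15 : countLt (fun v => Nat.beq (T.ol v) 15) T.N = 1120 := by decide +kernel
theorem orep_16 : T.orep 16 < T.N ∧ T.ol (T.orep 16) = 16 := by decide +kernel
theorem cnt_16 : countLt (fun v => Nat.beq (T.ol v) 16) T.N = 1120 := by decide +kernel
theorem orep_17 : T.orep 17 < T.N ∧ T.ol (T.orep 17) = 17 := by decide +kernel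
theorem cnt_17 : countLt (fun v => Nat.beq (T.ol v) 17) T.N = 70 := by decide +kernel
theorem orep_18 : T.orep 18 < T.N ∧ T.ol (T.orep 18) = 18 := by decide +kernel
theorem cnt_18 : countLt (fun v => Nat.beq (T.ol v) 18) T.N = 1680 := by decide +kernel
theorem orep_19 : T.orep 19 < T.N ∧ T.ol (T.orep 19) = 19 := by decide +kernel
theorem cnt_19 : countLt (fun v => Nat.beq (T.ol v) 19) T.N = 8 := by decide +kernel
theorem orep_20 : T.orep 20 < T.N ∧ T.ol (T.orep 20) = 20 := by decide +kernel
theorem cnt_20 : countLt (fun v => Nat.beq (T.ol v) 20) T.N = 8 := by decide +kernel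
theorem orep_21 : T.orep 21 < T.N ∧ T.ol (T.orep 21) = 21 := by decide +kernel
theorem cnt_21 : countLt (fun v => Nat.beq (T.ol v) 21) T.N = 168 := by decide +kernel
theorem orep_22 : T.orep 22 < T.N ∧ T.ol (T.orep 22) = 22 := by decide +kernel
theorem cnt_22 : countLt (fun v => Nat.beq (T.ol v) 22) T.N = 168 := by decide +kernel
theorem orep_23 : T.orep 23 < T.N ∧ T.ol (T.orep 23) = 23 := by decide +kernel
theorem cnt_23 : countLt (fun v => Nat.beq (T.ol v) 23) T.N = 280 := by decide +kernel
theorem orep_24 : T.orep 24 < T.N ∧ T.ol (T.orep 24) = 24 := by decide +kernel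
theorem cnt_24 : countLt (fun v => Nat.beq (T.ol v) 24) T.N = 1680 := by decide +kernel
theorem orep_25 : T.orep 25 < T.N ∧ T.ol (T.orep 25) = 25 := by decide +kernel
theorem cnt_25 : countLt (fun v => Nat.beq (T.ol v) 25) T.N = 840 := by decide +kernel
theorem orep_26 : T.orep 26 < T.N ∧ T.ol (T.orep 26) = 26 := by decide +kernel
theorem cnt_26 : countLt (fun v => Nat.beq (T.ol v) 26) T.N = 280 := by decide +kernel
theorem orep_27 : T.orep 27 < T.N ∧ T.ol (T.orep 27) = 27 := by decide +kernel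
theorem cnt_27 : countLt (fun v => Nat.beq (T.ol v) 27) T.N = 280 := by decide +kernel
theorem orep_28 : T.orep 28 < T.N ∧ T.ol (T.orep 28) = 28 := by decide +kernel
theorem cnt_28 : countLt (fun v => Nat.beq (T.ol v) 28) T.N = 1120 := by decide +kernel
theorem orep_29 : T.orep 29 < T.N ∧ T.ol (T.orep 29) = 29 := by decide +kernel
theorem cnt_29 : countLt (fun v => Nat.beq (T.ol v) 29) T.N = 28 := by decide +kernel
theorem orep_30 : T.orep 30 < T.N ∧ T.ol (T.orep 30) = 30 := by decide +kernel
theorem cnt_30 : countLt (fun v => Nat.beq (T.ol v) 30) T.N = 560 := by decide +kernel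
theorem orep_31 : T.orep 31 < T.N ∧ T.ol (T.orep 31) = 31 := by decide +kernel
theorem cnt_31 : countLt (fun v => Nat.beq (T.ol v) 31) T.N = 56 := by decide +kernel
theorem orep_32 : T.orep 32 < T.N ∧ T.ol (T.orep 32) = 32 := by decide +kernel
theorem cnt_32 : countLt (fun v => Nat.beq (T.ol v) 32) T.N = 280 := by decide +kernel
theorem orep_33 : T.orep 33 < T.N ∧ T.ol (T.orep 33) = 33 := by decide +kernel
theorem cnt_33 : countLt (fun v => Nat.beq (T.ol v) 33) T.N = 56 := by decide +kernel
theorem orep_34 : T.orep 34 < T.N ∧ T.ol (T.orep 34) = 34 := by decide +kernel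
theorem cnt_34 : countLt (fun v => Nat.beq (T.ol v) 34) T.N = 1 := by decide +kernel

end Cfsg.Agent.Lib.Helper56.MYU7
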