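import Mathlib
import Cfsg.Agent.Lib.Helper56.TC
import Cfsg.Agent.Lib.Helper56.TCFast
import Cfsg.Agent.Lib.Helper56.MYU7.DA0
set_option autoImplicit false
set_option maxRecDepth 1000000

namespace Cfsg.Agent.Lib.Helper56.MYU7

open Cfsg.Agent.Lib.Helper56.TC Cfsg.Agent.Lib.Helper56.TC.Tabs

noncomputable def nA : List (List ℕ) := [nA0, nA1, nA2, nA3, nA4, nA5, nA6, nA7, nA8, nA9, nA10, nA11]

noncomputable def fA : List (List ℕ) := [fA0, fA1, fA2, fA3, fA4, fA5]

/-- The certificate data. -/
noncomputable def T : Tabs where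
  K := 8
  N := 17280
  N' := 17280
  INF := 103683
  fuel := 1
  inv := fun l => l
  tg := slotFld2 nA 45 363 18788340662190665823115844774314696219005460391266558965658327772257672200916867547709591987078149624255479807 8 40 43 32767 (fun _ => 0)
  rk := slotFld2 nA 45 363 18788340662190665823115844774314696219005460391266558965658327772257672200916867547709591987078149624255479807 8 40 58 131071
    (fun x => Nat.rec (motive := fun _ => ℕ) 0 (fun _ _ => 103683) x)
  jc := slotFld2 nA 45 363 18788340662190665823115844774314696219005460391266558965658327772257672200916867547709591987078149624255479807 8 40 75 255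
    (fun x => Nat.rec (motive := fun _ => ℕ) 3 (fun _ _ => 0) x)
  dd := fldA nA 45 363 18788340662190665823115844774314696219005460391266558965658327772257672200916867547709591987078149624255479807 0 127
  dl := fldA nA 45 363 18788340662190665823115844774314696219005460391266558965658327772257672200916867547709591987078149624255479807 7 7
  qj := fldA nA 45 363 18788340662190665823115844774314696219005460391266558965658327772257672200916867547709591987078149624255479807 10 1
  mp := fldA nA 45 363 18788340662190665823115844774314696219005460391266558965658327772257672200916867547709591987078149624255479807 11 32767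
  mt := fldA nA 45 363 18788340662190665823115844774314696219005460391266558965658327772257672200916867547709591987078149624255479807 26 131071
  tb := tbFld2 fA 103 159 730750818665451459101842416358141509827966271487 15 39 32767
  rels1 := [[0, 1, 0, 1, 0, 1],
    [0, 2, 0, 2],
    [0, 3, 0, 3],
    [0, 4, 0, 4],
    [0, 5, 0, 5],
    [0, 6, 0, 6],
    [0, 7, 0, 7],
    [1, 2, 1, 2, 1, 2],
    [1, 3, 1, 3],
    [1, 4, 1, 4],
    [1, 5, 1, 5],
    [1, 6, 1, 6],
    [1, 7, 1, 7],
    [2, 3, 2, 3, 2, 3],
    [2, 4, 2, 4],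
    [2, 5, 2, 5],
    [2, 6, 2, 6],
    [2, 7, 2, 7],
    [3, 4, 3, 4, 3, 4],
    [3, 5, 3, 5],
    [3, 6, 3, 6],
    [3, 7, 3, 7],
    [4, 5, 4, 5, 4, 5],
    [4, 6, 4, 6],
    [4, 7, 4, 7, 4, 7],
    [5, 6, 5, 6, 5, 6],
    [5, 7, 5, 7],
    [6, 7, 6, 7]]
  subs := [[0],
    [1],
    [2],
    [3],
    [4],
    [5],
    [6]]
  rx := [[0, 1, 0, 1, 0, 1],
    [0, 2, 0, 2],
    [0, 3, 0, 3],
    [0, 4, 0, 4],
    [0, 5, 0, 5],
    [0, 6, 0, 6],
    [0, 7, 0, 7],
    [1, 2, 1, 2, 1, 2],
    [1, 3, 1, 3],
    [1, 4, 1, 4],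
    [1, 5, 1, 5],
    [1, 6, 1, 6],
    [1, 7, 1, 7],
    [2, 3, 2, 3, 2, 3],
    [2, 4, 2, 4],
    [2, 5, 2, 5],
    [2, 6, 2, 6],
    [2, 7, 2, 7],
    [3, 4, 3, 4, 3, 4],
    [3, 5, 3, 5],
    [3, 6, 3, 6],
    [3, 7, 3, 7],
    [4, 5, 4, 5, 4, 5],
    [4, 6, 4, 6],
    [4, 7, 4, 7, 4, 7],
    [5, 6, 5, 6, 5, 6],
    [5, 7, 5, 7],
    [6, 7, 6, 7],
    [0, 8],
    [1, 9],
    [2, 10],
    [3, 11],
    [4, 12],
    [5, 13],
    [6, 14]]
  RB := 7
  tpl := fldA fA 103 159 730750818665451459101842416358141509827966271487 0 7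
  tdep := fldA fA 103 159 730750818665451459101842416358141509827966271487 3 127
  ol := fldA fA 103 159 730750818665451459101842416358141509827966271487 10 63
  oc := fldA fA 103 159 730750818665451459101842416358141509827966271487 16 7
  op := fldA fA 103 159 730750818665451459101842416358141509827966271487 19 32767
  odep := fldA fA 103 159 730750818665451459101842416358141509827966271487 34 31
  orep := fun c => Tabs.nth 0 [0, 1, 17, 81, 214, 267, 717, 723, 760, 839, 1189, 2170, 2382, 2946, 3062, 3961, 4039, 4902, 5529, 7015, 7381, 7427, 7471, 7848, 7891, 10186, 10873, 11146, 12339, 14113, 14417, 15556, 16065, 17048, 17279] c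

end Cfsg.Agent.Lib.Helper56.MYU7
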